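import Cfsg.Agent.H59.Bs.SpMinus
import Cfsg.Agent.H39.Bs.Norm
import Cfsg.Agent.H749.BlockOrth

/-!
# S5733, BS08 (a): orthogonal blocks of type minus (helper447)

The number of irreducible isometries in `nQ Q` of a nondegenerate quadratic form `Q` of minus type in dimension `2j` over a finite field is
at least `ar j / (2 j)` times the order of the orthogonal group.
-/

set_option autoImplicit false
set_option linter.unusedSectionVars false

namespace Cfsg.Agent.H447.Bs

open Cfsg.Agent.H847.Bs Cfsg.Agent.H59.Bs Cfsg.Agent.H39.Bs Module QuadraticMap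
open Cfsg.Agent.LieClassical.OrthCore Cfsg.Agent.LieClassical.OrthTrans Cfsg.Agent.H182.Sign
open scoped IntermediateField

section Transport

variable {F V V' : Type*} [Field F] [AddCommGroup V] [Module F V] [AddCommGroup V'] [Module F V']
  {Q : QuadraticForm F V} {Q' : QuadraticForm F V'} {e : V ≃ₗ[F] V'}

theorem polar_e (he : ∀ v, Q' (e v) = Q v) (x y : V) : polar Q' (e x) (e y) = polar Q x y := by
  rw [polar, polar, ← map_add, he, he, he]

theorem cj_mul (x y : V ≃ₗ[F] V) : cj e (x * y) = cj e x * cj e y := by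
  ext v
  simp [cj]

theorem cj_one : cj e (1 : V ≃ₗ[F] V) = 1 := by
  ext v
  simp [cj]

theorem cj_inv (x : V ≃ₗ[F] V) : cj e x⁻¹ = (cj e x)⁻¹ := by
  rw [eq_inv_iff_mul_eq_one, ← cj_mul, inv_mul_cancel, cj_one]

theorem cj_mem_E (he : ∀ v, Q' (e v) = Q v) {g : V ≃ₗ[F] V} (hg : g ∈ E Q) : cj e g ∈ E Q' := by
  induction hg using Subgroup.closure_induction with
  | mem x hx =>
    obtain ⟨u, w, hu, hw, rfl⟩ := hx
    have hu' : Q' (e u) = 0 := by rw [he, hu]
    have hw' : polar Q' (e u) (e w) = 0 := by rw [polar_e he, hw]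
    have h1 : cj e (siegel Q u w hu hw) = siegel Q' (e u) (e w) hu' hw' := by
      refine LinearEquiv.ext fun v => ?_
      obtain ⟨v, rfl⟩ := e.surjective v
      rw [cj_apply, siegel_apply, siegel_apply, polar_e he, polar_e he, he]
      simp only [map_add, map_sub, map_smul]
    rw [h1]
    exact siegel_mem_E hu' hw'
  | one => rw [cj_one]; exact one_mem _
  | mul x y _ _ hx hy => rw [cj_mul]; exact mul_mem hx hy
  | inv x _ hx => rw [cj_inv]; exact inv_mem hx

theorem cj_mem_O (he : ∀ v, Q' (e v) = Q v) {g : V ≃ₗ[F] V} (hg : g ∈ O Q) : cj e g ∈ O Q' := by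
  intro v
  obtain ⟨v, rfl⟩ := e.surjective v
  rw [cj_apply, he, he, mem_O.1 hg]

theorem cj_mem_sl {g : V ≃ₗ[F] V} (hg : g ∈ slV F V) : cj e g ∈ slV F V' := by
  have h1 : ((cj e g : V' ≃ₗ[F] V') : V' →ₗ[F] V') = (e : V →ₗ[F] V') ∘ₗ (g : V →ₗ[F] V) ∘ₗ (e.symm : V' →ₗ[F] V) := rfl
  show LinearMap.det _ = 1
  rw [h1, LinearMap.det_conj]
  exact hg

/-- transport of `nQ` -/
theorem cj_mem_nQ (he : ∀ v, Q' (e v) = Q v) {g : V ≃ₗ[F] V} (hg : g ∈ nQ Q) : cj e g ∈ nQ Q' := by
  unfold nQ at hg ⊢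
  split_ifs at hg ⊢ with h
  · exact cj_mem_E he hg
  · exact ⟨cj_mem_O he hg.1, cj_mem_sl hg.2⟩

/-- `nQ` is normalised by the orthogonal group -/
theorem conj_mem_nQ {g h : V ≃ₗ[F] V} (hg : g ∈ O Q) (hh : h ∈ nQ Q) : g * h * g⁻¹ ∈ nQ Q := by
  have h1 : g * h * g⁻¹ = cj g h := by
    refine LinearEquiv.ext fun v => ?_
    obtain ⟨v, rfl⟩ := g.surjective v
    rw [cj_apply, LinearEquiv.mul_apply, LinearEquiv.mul_apply]
    congr 2
    exact g.symm_apply_apply v
  rw [h1]
  exact cj_mem_nQ (fun v => hg v) hh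

theorem mem_Iso_frmQ {g : V ≃ₗ[F] V} : g ∈ (frmQ Q).Iso ↔ g ∈ O Q := by
  constructor
  · intro h
    exact h.2
  · intro h
    exact ⟨fun x y => polar_map h x y, h⟩

end Transport

section Field

variable {F K L : Type*} [Field F] [Field K] [Field L] [Finite L] [Algebra F K] [Algebra K L] [Algebra F L]
  [IsScalarTower F K L] (h2 : finrank K L = 2)

theorem qM_apply (x : L) : traceForm F (qN h2) x = Algebra.trace F K (Algebra.norm K x) := rfl

theorem polar_qM (x y : L) : polar (traceForm F (qN h2)) x y = Algebra.trace F L (x * y ^ Nat.card K) := by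
  have h0 : ∀ z, traceForm F (qN h2) z = Algebra.trace F K (qN h2 z) := fun _ => rfl
  have h1 : polar (traceForm F (qN h2)) x y = Algebra.trace F K (polar (qN h2) x y) := by
    rw [polar, polar, h0, h0, h0, map_sub, map_sub]
  have hK : Finite K := fin_base K L
  have hfK : FiniteDimensional F K := Module.Finite.of_finite
  have hfL : FiniteDimensional K L := Module.Finite.of_finite
  rw [h1, polar_qN, Algebra.trace_trace]

include h2 in
theorem norm_eq_one {t : Lˣ} (ht : t ^ (Nat.card K + 1) = 1) : Algebra.norm K (t : L) = 1 := by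
  apply (algebraMap K L).injective
  rw [norm_two h2, map_one, ← pow_succ', ← Units.val_pow_eq_pow_val, ht, Units.val_one]

theorem mulE_mem_O {t : Lˣ} (ht : t ^ (Nat.card K + 1) = 1) : mulE F t ∈ O (traceForm F (qN h2)) := by
  intro x
  rw [qM_apply, qM_apply, mulE_apply, map_mul, norm_eq_one h2 ht, one_mul]

theorem pow_eq_of_mulE_mem {t : Lˣ} (h : mulE F t ∈ O (traceForm F (qN h2))) : t ^ (Nat.card K + 1) = 1 := by
  have hF : Finite F := Finite.of_injective _ (algebraMap F L).injective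
  have hfd : FiniteDimensional F L := Module.Finite.of_finite
  have h1 : ∀ y : L, Algebra.trace F L (((t : L) * t ^ Nat.card K - 1) * y) = 0 := by
    intro y
    obtain ⟨z, rfl⟩ : ∃ z : L, z ^ Nat.card K = y := ⟨y ^ Nat.card K, pow_card_card h2 y⟩
    have h3 := polar_map h 1 z
    rw [polar_qM, polar_qM, mulE_apply, mulE_apply, mul_one, one_mul, mul_pow] at h3
    rw [← sub_eq_zero, ← map_sub] at h3
    rw [← h3]
    congr 1
    ring
  have h4 : (t : L) * t ^ Nat.card K - 1 = 0 := by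
    refine (traceForm_nondegenerate F L).1 _ fun z => ?_
    rw [Algebra.traceForm_apply]
    exact h1 z
  apply Units.ext
  rw [Units.val_pow_eq_pow_val, pow_succ', Units.val_one]
  exact sub_eq_zero.1 h4

include h2 in
theorem mulE_mem_sl {t : Lˣ} (ht : t ^ (Nat.card K + 1) = 1) : mulE F t ∈ slV F L := by
  have hK : Finite K := fin_base K L
  have hF : Finite F := Finite.of_injective _ (algebraMap F L).injective
  have hfK : FiniteDimensional F K := Module.Finite.of_finite
  have hfL : FiniteDimensional K L := Module.Finite.of_finite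
  show LinearMap.det ((mulE F t : L ≃ₗ[F] L) : L →ₗ[F] L) = 1
  have h1 : ((mulE F t : L ≃ₗ[F] L) : L →ₗ[F] L) = Algebra.lmul F L (t : L) := by
    ext; rfl
  rw [h1, ← Algebra.norm_apply, ← Algebra.norm_norm (S := K), norm_eq_one h2 ht, map_one]

theorem mulE_mul (s t : Lˣ) : mulE F (s * t) = mulE F s * mulE F t := by
  refine LinearEquiv.ext fun x => ?_
  rw [LinearEquiv.mul_apply, mulE_apply, mulE_apply, mulE_apply, Units.val_mul, mul_assoc]

theorem mulE_mem_nQ (hG : (2 : F) = 0 → Good (traceForm F (qN h2))) {t : Lˣ} (ht : t ^ (Nat.card K + 1) = 1) :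
    mulE F t ∈ nQ (traceForm F (qN h2)) := by
  have hK : Finite K := fin_base K L
  have hF : Finite F := Finite.of_injective _ (algebraMap F L).injective
  have hfd : FiniteDimensional F L := Module.Finite.of_finite
  unfold nQ
  split_ifs with h
  · -- squares
    have hodd : Even (Nat.card K) := by
      have h3 : (2 : K) = 0 := by rw [← map_ofNat (algebraMap F K) 2, h, map_zero]
      have h4 : addOrderOf (1 : K) = 2 := by
        apply addOrderOf_eq_prime
        · rw [nsmul_one]
          exact h3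
        · exact one_ne_zero
      exact even_iff_two_dvd.2 (h4 ▸ addOrderOf_dvd_natCard (1 : K))
    obtain ⟨m, hm⟩ := hodd
    have h3 : t = (t ^ (m + 1)) * (t ^ (m + 1)) := by
      rw [← pow_add, show m + 1 + (m + 1) = (Nat.card K + 1) + 1 by omega, pow_succ, ht, one_mul]
    rw [h3, mulE_mul]
    refine Cfsg.Agent.H749.sq_mem_E (hG h) (mulE_mem_O h2 ?_)
    rw [← pow_mul, mul_comm, pow_mul, ht, one_pow]
  · exact ⟨mulE_mem_O h2 ht, mulE_mem_sl h2 ht⟩

/-- the count on `L` -/
theorem minus_L (hG : (2 : F) = 0 → Good (traceForm F (qN h2))) {j : ℕ} (hj : finrank F L = 2 * j) (hj0 : 0 < j)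
    (hK : Nat.card K = Nat.card F ^ j) :
    ar j / (2 * j) * Nat.card (frmQ (traceForm F (qN h2))).Iso ≤
      (Nat.card {x // x ∈ (frmQ (traceForm F (qN h2))).Bm ∧ x ∈ nQ (traceForm F (qN h2))} : ℝ) := by
  classical
  have hF : Finite F := Finite.of_injective _ (algebraMap F L).injective
  have hfd : FiniteDimensional F L := Module.Finite.of_finite
  have hfe : Finite (L ≃ₗ[F] L) := Finite.of_injective _ DFunLike.coe_injective
  set q := Nat.card F with hq
  have hq2 : 2 ≤ q := Finite.one_lt_card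
  set G := (frmQ (traceForm F (qN h2))).Iso with hG'
  set B : Set (L ≃ₗ[F] L) := {x | x ∈ (frmQ (traceForm F (qN h2))).Bm ∧ x ∈ nQ (traceForm F (qN h2))} with hB
  have hBc : Nat.card {x // x ∈ (frmQ (traceForm F (qN h2))).Bm ∧ x ∈ nQ (traceForm F (qN h2))} = Nat.card B := rfl
  rw [hBc]
  let T : Set Lˣ := {t | t ^ (q ^ j + 1) = 1}
  let S : Set Lˣ := {t | t ^ (q ^ j + 1) = 1 ∧ F⟮(t : L)⟯ = ⊤}
  let E : Set (L ≃ₗ[F] L) := (mulE F) '' S
  have hES : Nat.card E = Nat.card S := Nat.card_image_of_injective mulE_injective S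
  have hTK : ∀ {t : Lˣ}, t ^ (q ^ j + 1) = 1 → t ^ (Nat.card K + 1) = 1 := fun h => by rwa [hK]
  have key := card_pairs G E B (2 * j * Nat.card T) (by
      rintro _ ⟨t, ht, rfl⟩
      have h1 := card_conj_le G T (fun c hc => by
        have h3 := pow_eq_of_mulE_mem h2 (mem_Iso_frmQ.1 hc)
        rw [hK] at h3
        exact h3) ht.2 E (by rintro _ ⟨u, _, rfl⟩; exact ⟨u, rfl⟩)
      rwa [hj] at h1) (by
      rintro g hg _ ⟨t, ht, rfl⟩
      have hO := mulE_mem_O (F := F) h2 (hTK ht.1)
      refine ⟨⟨G.mul_mem (G.mul_mem hg (mem_Iso_frmQ.2 hO)) (G.inv_mem hg), ?_⟩, ?_⟩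
      · have h3 := Irr_cj (e := g) (irr_mulE ht.2)
        rw [Submodule.map_top, LinearMap.range_eq_top.2 g.surjective] at h3
        exact h3
      · exact conj_mem_nQ (mem_Iso_frmQ.1 hg) (mulE_mem_nQ h2 hG (hTK ht.1)))
  rw [hES] at key
  have hL : Nat.card L = (q ^ j) ^ 2 := by
    rw [Module.natCard_eq_pow_finrank (K := F), hj, ← pow_mul, mul_comm 2 j]
  have hQ1 : 1 < q ^ j := Nat.one_lt_pow hj0.ne' hq2
  have hT : q ^ j + 1 ≤ Nat.card T := card_tor hQ1 hL
  have hbad := card_bad (F := F) (L := L) hj hj0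
  have hsplit : Nat.card T ≤ Nat.card S + Nat.card {t : Lˣ // t ^ (q ^ j + 1) = 1 ∧ F⟮(t : L)⟯ ≠ ⊤} := by
    have h3 : T = S ∪ {t | t ^ (q ^ j + 1) = 1 ∧ F⟮(t : L)⟯ ≠ ⊤} := by
      ext t
      constructor
      · intro ht
        by_cases h : F⟮(t : L)⟯ = ⊤
        · exact Or.inl ⟨ht, h⟩
        · exact Or.inr ⟨ht, h⟩
      · rintro (h | h)
        · exact h.1
        · exact h.1
    rw [h3]
    exact Set.ncard_union_le _ _
  have hnum := num (j := j) hq2
  have hSr : ar j * Nat.card T ≤ (Nat.card S : ℝ) := by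
    have h4 : (Nat.card T : ℝ) ≤ Nat.card S + (16 * (4 / 5 : ℝ) ^ j * (q ^ j + 1)) := by
      have h5 : (Nat.card T : ℝ) ≤ Nat.card S + ((2 + ∑ e ∈ Finset.Icc 1 (j / 3), (q ^ e + 1) : ℕ) : ℝ) := by
        exact_mod_cast hsplit.trans (Nat.add_le_add_left hbad _)
      linarith
    have h6 : (16 * (4 / 5 : ℝ) ^ j * (q ^ j + 1)) ≤ 16 * (4 / 5 : ℝ) ^ j * Nat.card T := by
      apply mul_le_mul_of_nonneg_left _ (by positivity)
      exact_mod_cast hT
    unfold ar
    linarith
  have hTpos : (0 : ℝ) < Nat.card T := by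
    have : 0 < Nat.card T := by omega
    exact_mod_cast this
  have hjpos : (0 : ℝ) < j := by exact_mod_cast hj0
  have keyr : (Nat.card G : ℝ) * Nat.card S ≤ Nat.card B * (2 * j * Nat.card T) := by exact_mod_cast key
  have h7 : (Nat.card G : ℝ) * (ar j * Nat.card T) ≤ Nat.card B * (2 * j * Nat.card T) :=
    (mul_le_mul_of_nonneg_left hSr (Nat.cast_nonneg _)).trans keyr
  rw [div_mul_eq_mul_div, div_le_iff₀ (by positivity)]
  have h8 : (ar j * Nat.card G) * Nat.card T ≤ (Nat.card B * (2 * j)) * Nat.card T := by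
    calc (ar j * Nat.card G) * Nat.card T = (Nat.card G : ℝ) * (ar j * Nat.card T) := by ring
      _ ≤ _ := h7
      _ = _ := by ring
  exact le_of_mul_le_mul_right h8 hTpos

end Field

theorem pl_iff {F V : Type*} [Field F] [AddCommGroup V] [Module F V] {Q : QuadraticForm F V} :
    Cfsg.Agent.H932.Pl Q ↔ PlusT Q := by
  constructor
  · rintro ⟨A, hA, hd⟩
    refine ⟨A, ⟨fun x hx y hy => ?_, hA⟩, hd⟩
    show polar Q x y = 0
    rw [polar, hA _ (A.add_mem hx hy), hA _ hx, hA _ hy]
    simp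
  · rintro ⟨A, hA, hd⟩
    exact ⟨A, hA.2, hd⟩

/-- **blocks of type minus, orthogonal case** -/
theorem o_minus {F V : Type*} [Field F] [Finite F] [AddCommGroup V] [Module F V] [FiniteDimensional F V]
    {Q : QuadraticForm F V} (hQ : Nondeg Q) (hmin : ¬ PlusT Q) {j : ℕ} (hj : 1 ≤ j) (hd : finrank F V = 2 * j) :
    ar j / (2 * j) * Nat.card (frmQ Q).Iso ≤ (Nat.card {x // x ∈ (frmQ Q).Bm ∧ x ∈ nQ Q} : ℝ) := by
  by_cases har : ar j ≤ 0
  · refine le_trans ?_ (Nat.cast_nonneg _)
    exact mul_nonpos_of_nonpos_of_nonneg (div_nonpos_of_nonpos_of_nonneg har (by positivity)) (Nat.cast_nonneg _)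
  push Not at har
  have hj3 : 3 ≤ j := by
    by_contra hlt
    have hj12 : j = 1 ∨ j = 2 := by omega
    unfold ar at har
    rcases hj12 with rfl | rfl <;> norm_num at har
  obtain ⟨p, hp⟩ := CharP.exists F
  have hpp : Fact p.Prime := ⟨(CharP.char_is_prime_or_zero F p).resolve_right (CharP.char_ne_zero_of_finite F p)⟩
  have hnz : NeZero j := ⟨by omega⟩
  let K := FiniteField.Extension F p j
  have hcK : CharP K p := charP_of_injective_algebraMap (algebraMap F K).injective p
  let L := FiniteField.Extension K p 2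
  let _ : Algebra F L := ((algebraMap K L).comp (algebraMap F K)).toAlgebra
  have htower : IsScalarTower F K L := IsScalarTower.of_algebraMap_eq' rfl
  have hKf : finrank F K = j := FiniteField.finrank_extension F p j
  have h2 : finrank K L = 2 := FiniteField.finrank_extension K p 2
  have hKc : Nat.card K = Nat.card F ^ j := FiniteField.natCard_extension F p j
  have hfL : FiniteDimensional F L := Module.Finite.of_finite
  have hfK : FiniteDimensional F K := Module.Finite.of_finite
  have hLf : finrank F L = 2 * j := by rw [← Module.finrank_mul_finrank F K L, hKf, h2, mul_comm]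
  have hsg : Sg (traceForm F (qN h2)) (finrank F K * 1) (-1) := (sg_qN h2).res
  have hV : Finite V := Module.finite_of_finite F
  obtain ⟨e, he⟩ := Cfsg.Agent.H932.exists_isometry hQ hsg.nondeg ⟨j, by rw [hd, two_mul]⟩ (hd.trans hLf.symm)
    (iff_of_false (fun h => hmin (pl_iff.1 h)) (not_pl_of_sg hsg))
  have he' : ∀ v, Q (e.symm v) = traceForm F (qN h2) v := fun v => by rw [← he, e.apply_symm_apply]
  have hG : (2 : F) = 0 → Good (traceForm F (qN h2)) := fun _ =>
    Cfsg.Agent.LieClassical.OrthFinite.good_of_finite hsg.nondeg (by omega)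
  have h1 := minus_L (F := F) (K := K) (L := L) h2 hG hLf (by omega) hKc
  have h3 : Nat.card (frmQ Q).Iso ≤ Nat.card (frmQ (traceForm F (qN h2))).Iso :=
    card_Iso_le (e := e) (polar_e he) he
  have h4 : Nat.card {x // x ∈ (frmQ (traceForm F (qN h2))).Bm ∧ x ∈ nQ (traceForm F (qN h2))} ≤
      Nat.card {x // x ∈ (frmQ Q).Bm ∧ x ∈ nQ Q} := by
    have hfe : Finite (V ≃ₗ[F] V) := Finite.of_injective _ DFunLike.coe_injective
    exact Nat.card_le_card_of_injective (fun x => ⟨cj e.symm x.1, Bm_cj (polar_e he') he' x.2.1, cj_mem_nQ he' x.2.2⟩)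
      fun _ _ h => Subtype.ext (cj_injective e.symm (congrArg Subtype.val h))
  have hjpos : (0 : ℝ) < j := by exact_mod_cast hj
  calc ar j / (2 * j) * (Nat.card (frmQ Q).Iso : ℝ) ≤ ar j / (2 * j) * Nat.card (frmQ (traceForm F (qN h2))).Iso :=
        mul_le_mul_of_nonneg_left (by exact_mod_cast h3) (by positivity)
    _ ≤ _ := h1
    _ ≤ _ := by exact_mod_cast h4

end Cfsg.Agent.H447.Bs
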